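import Groth.Agent.SpecGen.QcFlasque
import Groth.Agent.SpecLib.Basic

/-!
Extending sections of an inverse image near a generization-closed compact subset of a spectral space.
-/

set_option autoImplicit false
set_option backward.isDefEq.respectTransparency false
set_option backward.isDefEq.respectTransparency.types false
set_option linter.style.haveILetI false

universe u

open CategoryTheory CategoryTheory.Limits Opposite TopologicalSpace TopCat Groth.Agent.SoftTop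

noncomputable section

namespace Groth.Agent.SpecGen

variable {X Z : TopCat.{u}} [SpectralSpace X] {i : Z ⟶ X} {F : CohTop.Ab X} {H : CohTop.Ab Z}

theorem exists_extend (D : PullData i F H) (hi : Topology.IsEmbedding i) {A : Set Z} (hA : IsCompact A)
    (hgen : ∀ (x : X) (a : Z), a ∈ A → x ⤳ i a → x ∈ i '' A)
    {U : Opens Z} (hAU : A ⊆ U) (s : H.obj.obj (op U)) :
    ∃ (W : Opens X) (S : F.obj.obj (op W)), ∀ (z : Z) (hz : z ∈ A), ∃ hW : i z ∈ W,
      TopCat.Presheaf.germ H.obj ((Opens.map i).obj W) z hW (D.η.app (op W) S) =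
        TopCat.Presheaf.germ H.obj U z (hAU hz) s := by
  have loc : ∀ z : A, ∃ (W : Opens X) (σ : F.obj.obj (op W)), i z.1 ∈ W ∧ IsCompact (W : Set X) ∧
      ∀ (y : Z) (hy : y ∈ A) (hW : i y ∈ W),
        TopCat.Presheaf.germ H.obj ((Opens.map i).obj W) y hW (D.η.app (op W) σ) =
          TopCat.Presheaf.germ H.obj U y (hAU hy) s := by
    rintro ⟨z, hz⟩
    obtain ⟨W₀, hW₀, σ₀, hσ⟩ := D.exists_germ s z (hAU hz)
    obtain ⟨V, hV⟩ := exists_agree H (D.η.app (op W₀) σ₀) s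
    obtain ⟨O, hO, hOV⟩ := hi.isOpen_iff.1 V.isOpen
    have hzO : i z ∈ O := by
      have : z ∈ (V : Set Z) := (hV z).2 ⟨hW₀, hAU hz, hσ⟩
      rw [← hOV] at this
      exact this
    obtain ⟨W, hWo, hWc, hzW, hWsub⟩ :=
      SpecLib.exists_qc (x := i z) (O := (W₀ : Set X) ∩ O) ⟨hW₀, hzO⟩ (W₀.2.inter hO)
    have hle : (⟨W, hWo⟩ : Opens X) ≤ W₀ := fun x hx => (hWsub hx).1
    refine ⟨⟨W, hWo⟩, F.obj.map (homOfLE hle).op σ₀, hzW, hWc, fun y hy hyW => ?_⟩
    have hyV : y ∈ (V : Set Z) := by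
      rw [← hOV]
      exact (hWsub hyW).2
    obtain ⟨a, _, e⟩ := (hV y).1 hyV
    exact (D.germ_map y hyW a _ σ₀ (TopCat.Presheaf.germ_res_apply F.obj _ _ _ _)).trans e
  choose W σ hzW hWc hσ using loc
  obtain ⟨t, ht⟩ := hA.elim_finite_subcover (fun z : A => i ⁻¹' (W z : Set X))
    (fun z => (W z).2.preimage hi.continuous) fun z hz => Set.mem_iUnion.2 ⟨⟨z, hz⟩, hzW ⟨z, hz⟩⟩
  choose G hG using fun p : A × A => exists_agree F (σ p.1) (σ p.2)
  let bad : A × A → Set X := fun p => ((W p.1 : Set X) ∩ W p.2) ∩ (G p : Set X)ᶜ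
  let N : Set X := ⋃ p ∈ t ×ˢ t, bad p
  have hN : SpecLib.CC N := by
    refine @Set.Finite.isClosed_biUnion X _ (constructibleTopology X) _ _
      ((t ×ˢ t).finite_toSet) fun p _ => ?_
    exact ((SpecLib.cc_of_isOpen_isCompact (W p.1).2 (hWc p.1)).inter
      (SpecLib.cc_of_isOpen_isCompact (W p.2).2 (hWc p.2))).inter
      (SpecLib.cc_of_isClosed (G p).2.isClosed_compl)
  let V : Opens X := ⟨(closure N)ᶜ, isClosed_closure.isOpen_compl⟩
  have hAV : ∀ a ∈ A, i a ∈ V := fun a ha hac => by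
    obtain ⟨x, hxN, hxa⟩ := hN.exists_specializes hac
    obtain ⟨b, hb, rfl⟩ := hgen x a ha hxa
    obtain ⟨p, hp, hbp⟩ := Set.mem_iUnion₂.1 hxN
    refine hbp.2 ((hG p (i b)).2 ⟨hbp.1.1, hbp.1.2, D.germ_eq b hbp.1.1 hbp.1.2 _ _ ?_⟩)
    exact (hσ p.1 b hb hbp.1.1).trans (hσ p.2 b hb hbp.1.2).symm
  let W' : {z : A // z ∈ t} → Opens X := fun k => W k.1 ⊓ V
  let sf : ∀ k, ToType (F.obj.obj (op (W' k))) := fun k =>
    F.obj.map (homOfLE (inf_le_left : W k.1 ⊓ V ≤ W k.1)).op (σ k.1)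
  obtain ⟨S, hS, -⟩ := TopCat.Sheaf.existsUnique_gluing' (F := F) W' (iSup W') (fun k => homOfLE (le_iSup W' k))
    le_rfl sf (by
      intro k l
      refine TopCat.Presheaf.section_ext F _ _ _ fun x hx => ?_
      show TopCat.Presheaf.germ F.obj _ x hx _ = TopCat.Presheaf.germ F.obj _ x hx _
      simp only [sf]
      erw [TopCat.Presheaf.germ_res_apply, TopCat.Presheaf.germ_res_apply, TopCat.Presheaf.germ_res_apply, TopCat.Presheaf.germ_res_apply]
      have hxG : x ∈ G (k.1, l.1) := by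
        by_contra hne
        exact hx.1.2 (subset_closure (Set.mem_iUnion₂.2
          ⟨(k.1, l.1), Finset.mk_mem_product k.2 l.2, ⟨hx.1.1, hx.2.1⟩, hne⟩))
      obtain ⟨_, _, e⟩ := (hG (k.1, l.1) x).1 hxG
      exact e)
  refine ⟨iSup W', S, fun z hz => ?_⟩
  obtain ⟨k, hk, hzk⟩ := Set.mem_iUnion₂.1 (ht hz)
  have hk' : i z ∈ W' ⟨k, hk⟩ := ⟨hzk, hAV z hz⟩
  refine ⟨Opens.mem_iSup.2 ⟨⟨k, hk⟩, hk'⟩, (D.germ_map z _ hzk S (σ k) ?_).trans (hσ k z hz hzk)⟩
  rw [← TopCat.Presheaf.germ_res_apply F.obj (homOfLE (le_iSup W' ⟨k, hk⟩)) (i z) hk' S, hS ⟨k, hk⟩]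
  exact TopCat.Presheaf.germ_res_apply F.obj _ _ _ _

variable (hi : Topology.IsEmbedding i) (hgen : ∀ (x : X) (a : Z), x ⤳ i a → x ∈ Set.range i)

include hi hgen in
theorem isQcFlasque_pull (D : PullData i F H) [TopCat.Sheaf.IsFlasque F] : IsQcFlasque H := by
  intro A B h hA _ s
  obtain ⟨W, S, hS⟩ := exists_extend D hi hA (fun x a ha hxa => by
    obtain ⟨b, rfl⟩ := hgen x a hxa
    exact ⟨b, (hi.isInducing.specializes_iff.1 hxa).mem_open A.2 ha, rfl⟩) (U := A) le_rfl s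
  obtain ⟨S', hS'⟩ := (AddCommGrpCat.epi_iff_surjective _).1
    (TopCat.Presheaf.IsFlasque.epi (F := F.obj) (homOfLE (le_top : W ≤ ⊤)).op) S
  refine ⟨H.obj.map (homOfLE (le_top : B ≤ (Opens.map i).obj ⊤)).op (D.η.app (op ⊤) S'),
    TopCat.Presheaf.section_ext H A _ _ fun z hz => ?_⟩
  show TopCat.Presheaf.germ H.obj A z hz _ = TopCat.Presheaf.germ H.obj A z hz s
  rw [TopCat.Presheaf.germ_res_apply, TopCat.Presheaf.germ_res_apply]
  obtain ⟨hW, e⟩ := hS z hz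
  refine Eq.trans (D.germ_map (U := ⊤) z trivial hW S' S ?_) e
  rw [← hS']
  exact (TopCat.Presheaf.germ_res_apply F.obj (homOfLE (le_top : W ≤ ⊤)) _ hW S').symm

end Groth.Agent.SpecGen
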