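import Groth.Agent.SoftTop.Gamma
import Groth.Agent.SpecGen.Extend

/-!
# Stalks of direct images along spectral maps
-/

set_option autoImplicit false
set_option backward.isDefEq.respectTransparency false
set_option backward.isDefEq.respectTransparency.types false
set_option linter.style.haveILetI false

universe u

open CategoryTheory CategoryTheory.Limits Opposite TopologicalSpace TopCat Groth.Agent.SoftTop

noncomputable section

namespace Groth.Agent.SpecGen

variable {X Y Z : TopCat.{u}} (f : X ⟶ Y) (i : Z ⟶ X) (y : Y) (hfib : ∀ z, f (i z) ⤳ y)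

include hfib in
lemma top_le_fibre {V : Opens Y} (hV : y ∈ V) : (⊤ : Opens Z) ≤ (Opens.map i).obj ((Opens.map f).obj V) := by
  intro z _
  show f (i z) ∈ V
  exact (hfib z).mem_open V.2 hV

variable {i} {F : CohTop.Ab X} {H : CohTop.Ab Z} (D : PullData i F H)

/-- The value on a neighbourhood of the map from the stalk of a direct image to sections on the fibre. -/
def fibreComp {V : Opens Y} (hV : y ∈ V) : F.obj.obj (op ((Opens.map f).obj V)) ⟶ H.obj.obj (op ⊤) :=
  D.η.app (op ((Opens.map f).obj V)) ≫ H.obj.map (homOfLE (top_le_fibre f i y hfib hV)).op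

/-- The map from the stalk of a direct image to the sections on the fibre. -/
def fibreMap : TopCat.Presheaf.stalk (C := AddCommGrpCat.{u}) (X := Y) ((CohTop.push f).obj F).obj y ⟶
    H.obj.obj (op ⊤) :=
  colimit.desc ((OpenNhds.inclusion y).op ⋙ ((CohTop.push f).obj F).obj)
    { pt := H.obj.obj (op ⊤)
      ι :=
        { app := fun V => fibreComp f y hfib D (V := V.unop.1) V.unop.2
          naturality := fun V W g => by
            refine Eq.trans ?_ (Category.comp_id _).symm
            let k : (Opens.map f).obj W.unop.1 ⟶ (Opens.map f).obj V.unop.1 :=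
              (Opens.map f).map ((OpenNhds.inclusion y).map g.unop)
            show F.obj.map k.op ≫ D.η.app (op ((Opens.map f).obj W.unop.1)) ≫
                H.obj.map (homOfLE (top_le_fibre f i y hfib W.unop.2)).op =
              D.η.app (op ((Opens.map f).obj V.unop.1)) ≫ H.obj.map (homOfLE (top_le_fibre f i y hfib V.unop.2)).op
            rw [← Category.assoc, D.η.naturality, Category.assoc]
            congr 1
            show H.obj.map _ ≫ H.obj.map _ = _
            rw [← Functor.map_comp]
            rfl } }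

lemma germ_fibreMap {V : Opens Y} (hV : y ∈ V) (s : F.obj.obj (op ((Opens.map f).obj V))) :
    fibreMap f y hfib D (TopCat.Presheaf.germ ((CohTop.push f).obj F).obj V y hV s) =
      fibreComp f y hfib D hV s :=
  ConcreteCategory.congr_hom (colimit.ι_desc (F := (OpenNhds.inclusion y).op ⋙ ((CohTop.push f).obj F).obj) _
    (op (⟨V, hV⟩ : OpenNhds y))) s

lemma germ_fibreComp {V : Opens Y} (hV : y ∈ V) (s : F.obj.obj (op ((Opens.map f).obj V))) (z : Z) :
    TopCat.Presheaf.germ H.obj ⊤ z (Opens.mem_top z) (fibreComp f y hfib D hV s) =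
      TopCat.Presheaf.germ H.obj ((Opens.map i).obj ((Opens.map f).obj V)) z
        (top_le_fibre f i y hfib hV (Opens.mem_top z)) (D.η.app (op ((Opens.map f).obj V)) s) := by
  rw [fibreComp, ConcreteCategory.comp_apply]
  exact TopCat.Presheaf.germ_res_apply H.obj (homOfLE (top_le_fibre f i y hfib hV)) z (Opens.mem_top z) _

variable [SpectralSpace X] [SpectralSpace Y] (hf : IsSpectralMap f) (hi : Topology.IsEmbedding i)
  (hrange : ∀ x, f x ⤳ y → x ∈ Set.range i)

include hf hrange in
/-- For a closed map, neighbourhoods of a fibre contain inverse images of neighbourhoods. -/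
lemma exists_nhd {W : Opens X} (hW : ∀ z, i z ∈ W) : ∃ V : Opens Y, y ∈ V ∧ (Opens.map f).obj V ≤ W := by
  have hcc : SpecLib.CC (f '' (W : Set X)ᶜ) :=
    (SpecLib.cc_of_isClosed W.isOpen.isClosed_compl).image hf
  refine ⟨⟨(closure (f '' (W : Set X)ᶜ))ᶜ, isClosed_closure.isOpen_compl⟩, ?_, fun x hx => ?_⟩
  · intro hy
    obtain ⟨_, ⟨x, hx, rfl⟩, hxy⟩ := hcc.exists_specializes hy
    obtain ⟨z, rfl⟩ := hrange x hxy
    exact hx (hW z)
  · by_contra h
    exact hx (subset_closure ⟨x, h, rfl⟩)

include hf hi hrange hfib in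
/-- Stalks of direct images along closed maps are sections on the fibre. -/
theorem bijective_fibreMap [CompactSpace Z] :
    Function.Bijective (fibreMap f y hfib D) := by
  refine ⟨(injective_iff_map_eq_zero _).2 fun w hw => ?_, fun t => ?_⟩
  · obtain ⟨V, hV, s, rfl⟩ := TopCat.Presheaf.exists_germ_eq ((CohTop.push f).obj F).obj w
    rw [germ_fibreMap] at hw
    obtain ⟨G, hG⟩ := exists_agree F (U := (Opens.map f).obj V) s (0 : F.obj.obj (op ((Opens.map f).obj V)))
    have hfG : ∀ z, i z ∈ G := fun z => by
      have hz := top_le_fibre f i y hfib hV (Opens.mem_top z)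
      refine (hG _).2 ⟨hz, hz, D.germ_eq z hz hz s 0 ?_⟩
      rw [← germ_fibreComp f y hfib D hV s z, hw, map_zero, map_zero, map_zero]
    obtain ⟨V', hV', hle⟩ := exists_nhd f y hf hrange hfG
    let k : V ⊓ V' ⟶ V := homOfLE inf_le_left
    have h0 : ((CohTop.push f).obj F).obj.map k.op s = 0 := by
      refine TopCat.Presheaf.section_ext F ((Opens.map f).obj (V ⊓ V')) _ _ fun x hx => ?_
      show TopCat.Presheaf.germ F.obj ((Opens.map f).obj (V ⊓ V')) x hx
        (F.obj.map ((Opens.map f).map k).op s) = _
      rw [TopCat.Presheaf.germ_res_apply]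
      obtain ⟨_, _, e⟩ := (hG x).1 (hle hx.2)
      exact e.trans ((map_zero _).trans (map_zero _).symm)
    rw [← TopCat.Presheaf.germ_res_apply ((CohTop.push f).obj F).obj k y ⟨hV, hV'⟩ s, h0, map_zero]
  · obtain ⟨W, S, hS⟩ := exists_extend D hi isCompact_univ (fun x a _ h => by
      obtain ⟨b, rfl⟩ := hrange x ((h.map f.hom.continuous).trans (hfib a))
      exact ⟨b, trivial, rfl⟩) (U := ⊤)
      (Set.subset_univ _) t
    obtain ⟨V, hV, hle⟩ := exists_nhd f y hf hrange (fun z => (hS z trivial).choose)
    let S' : F.obj.obj (op ((Opens.map f).obj V)) := F.obj.map (homOfLE hle).op S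
    refine ⟨TopCat.Presheaf.germ ((CohTop.push f).obj F).obj V y hV S', ?_⟩
    rw [germ_fibreMap]
    refine TopCat.Presheaf.section_ext H ⊤ _ _ fun z _ => ?_
    obtain ⟨hW, e⟩ := hS z (Set.mem_univ z)
    refine (germ_fibreComp f y hfib D hV S' z).trans (Eq.trans ?_ e)
    exact D.germ_map z _ hW S' S (TopCat.Presheaf.germ_res_apply F.obj (homOfLE hle) (i z) _ S)

variable (i)

/-- The natural map from stalks of direct images to sections on the fibre. -/
def fibreTrans : CohTop.push f ⋙ SiteBase.stalkF' y ⟶ CohTop.pull i ⋙ Gam Z where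
  app F := fibreMap f y hfib (pullData i F)
  naturality F G φ := by
    refine TopCat.Presheaf.stalk_hom_ext _ fun V hV => ?_
    refine ConcreteCategory.hom_ext _ _ fun s => ?_
    simp only [ConcreteCategory.comp_apply]
    show fibreMap f y hfib (pullData i G) ((TopCat.Presheaf.stalkFunctor AddCommGrpCat.{u} y).map
        ((CohTop.push f).map φ).hom (TopCat.Presheaf.germ ((CohTop.push f).obj F).obj V y hV s)) =
      ((CohTop.pull i).map φ).hom.app (op ⊤)
        (fibreMap f y hfib (pullData i F) (TopCat.Presheaf.germ ((CohTop.push f).obj F).obj V y hV s))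
    rw [TopCat.Presheaf.stalkFunctor_map_germ_apply, germ_fibreMap]
    erw [germ_fibreMap]
    rw [fibreComp, fibreComp, ConcreteCategory.comp_apply, ConcreteCategory.comp_apply]
    have n := ConcreteCategory.congr_hom (NatTrans.congr_app (congrArg (fun q => q.hom)
      ((TopCat.Sheaf.pullbackPushforwardAdjunction AddCommGrpCat.{u} i).unit.naturality φ))
      (op ((Opens.map f).obj V))) s
    have m := ConcreteCategory.congr_hom (((CohTop.pull i).map φ).hom.naturality
      (homOfLE (top_le_fibre f i y hfib hV)).op)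
      ((pullData i F).η.app (op ((Opens.map f).obj V)) s)
    refine Eq.trans ?_ m.symm
    exact congrArg (((CohTop.pull i).obj G).obj.map (homOfLE (top_le_fibre f i y hfib hV)).op) n

include hf hi hrange hfib in
/-- Stalks of higher direct images along spectral maps. -/
theorem rpush_stalk [SpectralSpace Z] (F : CohTop.Ab X) (n : ℕ) :
    Nonempty (CohTop.stalk ((CohTop.Rpush f n).obj F) y ≅
      AddCommGrpCat.of (CohTop.H ((CohTop.pull i).obj F) n)) := by
  haveI : ∀ F, IsIso ((fibreTrans f i y hfib).app F) := fun F =>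
    (ConcreteCategory.isIso_iff_bijective _).2
      (bijective_fibreMap f y hfib (pullData i F) hf hi hrange)
  haveI : IsIso (fibreTrans f i y hfib) := NatIso.isIso_of_isIso_app _
  haveI := SiteBase.preservesFiniteColimits_stalk (X := Y) y
  haveI := SiteBase.preservesHomology_stalk (X := Y) y
  haveI : PreservesFiniteLimits (SiteBase.stalkF' (X := Y) y) :=
    (SiteBase.stalkF' y).preservesFiniteLimits_of_preservesHomology
  haveI : PreservesFiniteLimits (CohTop.pull i) := SiteBase.preservesFiniteLimits_pull i
  haveI : PreservesFiniteColimits (CohTop.pull i) :=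
    ((TopCat.Sheaf.pullbackPushforwardAdjunction AddCommGrpCat.{u} i).leftAdjoint_preservesColimits :
      PreservesColimitsOfSize.{0, 0} _).preservesFiniteColimits
  haveI : (CohTop.pull i).Additive := Functor.additive_of_preserves_binary_products _
  have hgen : ∀ (x : X) (a : Z), x ⤳ i a → x ∈ Set.range i := fun x a h =>
    hrange x ((h.map f.hom.continuous).trans (hfib a))
  obtain ⟨e⟩ := SiteBase.nonempty_rightDerived_precomp_of_acyclic (CohTop.pull i) (Gam Z) (fun Q hQ q => by
    haveI := hQ
    haveI := SiteBase.isFlasque_of_injective Q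
    obtain ⟨e⟩ := derivedGam Z ((CohTop.pull i).obj Q) (q + 1)
    haveI := subsingleton_H_of_isQcFlasque _ (isQcFlasque_pull hi hgen (pullData i Q)) q
    exact (AddCommGrpCat.isZero_of_subsingleton
      (AddCommGrpCat.of (CohTop.H ((CohTop.pull i).obj Q) (q + 1)))).of_iso e) n
  obtain ⟨e'⟩ := derivedGam Z ((CohTop.pull i).obj F) n
  exact ⟨((SiteBase.rightDerivedCompIso (CohTop.push f) (SiteBase.stalkF' y) n).app F).symm ≪≫
    ((SiteBase.rightDerivedCongr (asIso (fibreTrans f i y hfib)) n) ≪≫ e).app F ≪≫ e'⟩

end Groth.Agent.SpecGen
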