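import Groth.Agent.SpecGen.Extend
import Groth.Agent.SoftTop.Gamma
import Mathlib.Algebra.Category.Grp.FilteredColimits
import Mathlib.Algebra.Category.Grp.AB

/-!
# Cohomology of generizations of a compact subset of a spectral space
-/

set_option autoImplicit false
set_option backward.isDefEq.respectTransparency false
set_option backward.isDefEq.respectTransparency.types false
set_option linter.style.haveILetI false

universe u

open CategoryTheory CategoryTheory.Limits Opposite TopologicalSpace TopCat Groth.Agent.SoftTop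

noncomputable section

namespace Groth.Agent.SpecGen

variable {X : TopCat.{u}} [SpectralSpace X] (Z : Set X)

/-- Open neighbourhoods of a subset. -/
abbrev qcNhds : ObjectProperty (Opens X)ᵒᵖ := fun U => Z ⊆ (U.unop : Set X) ∧ IsCompact (U.unop : Set X)

instance : IsFiltered (qcNhds Z).FullSubcategory where
  nonempty := ⟨⟨op ⊤, Set.subset_univ _, isCompact_univ⟩⟩
  cocone_objs U V := ⟨⟨op (U.1.unop ⊓ V.1.unop), Set.subset_inter U.2.1 V.2.1,
      QuasiSeparatedSpace.inter_isCompact _ _ U.1.unop.2 U.2.2 V.1.unop.2 V.2.2⟩,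
    ObjectProperty.homMk (homOfLE (inf_le_left : U.1.unop ⊓ V.1.unop ≤ U.1.unop)).op,
    ObjectProperty.homMk (homOfLE (inf_le_right : U.1.unop ⊓ V.1.unop ≤ V.1.unop)).op, trivial⟩
  cocone_maps U V a b := ⟨V, 𝟙 _, by
    apply ObjectProperty.hom_ext
    exact Quiver.Hom.unop_inj (Subsingleton.elim _ _)⟩

/-- Restriction of presheaves to the neighbourhoods followed by the colimit. -/
abbrev nhdsColim : ((Opens X)ᵒᵖ ⥤ AddCommGrpCat.{u}) ⥤ AddCommGrpCat.{u} :=
  (Functor.whiskeringLeft _ _ AddCommGrpCat.{u}).obj (qcNhds Z).ι ⋙ colim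

instance : PreservesFiniteLimits (nhdsColim Z) := comp_preservesFiniteLimits _ _

instance : PreservesFiniteColimits (nhdsColim Z) := comp_preservesFiniteColimits _ _

instance : (nhdsColim Z).Additive := Functor.additive_of_preserves_binary_products _

variable {W : TopCat.{u}} (i : W ⟶ X) (hiZ : ∀ w, ∃ e ∈ Z, i w ⤳ e)

include hiZ in
lemma top_le_nhd (U : (qcNhds Z).FullSubcategory) : (⊤ : Opens W) ≤ (Opens.map i).obj U.1.unop :=
  fun w _ => by
    obtain ⟨e, he, h⟩ := hiZ w
    exact h.mem_open U.1.unop.2 (U.2.1 he)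

/-- The map from sections near a subset to sections on it. -/
def nhdMap (F : CohTop.Ab X) : (nhdsColim Z).obj F.obj ⟶ ((CohTop.pull i).obj F).obj.obj (op ⊤) :=
  colimit.desc ((qcNhds Z).ι ⋙ F.obj)
    { pt := ((CohTop.pull i).obj F).obj.obj (op ⊤)
      ι :=
        { app := fun U => (pullData i F).η.app U.1 ≫
            ((CohTop.pull i).obj F).obj.map (homOfLE (top_le_nhd Z i hiZ U)).op
          naturality := fun U V g => by
            refine Eq.trans ?_ (Category.comp_id _).symm
            show F.obj.map g.hom ≫ (pullData i F).η.app V.1 ≫ _ = _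
            rw [← Category.assoc, (pullData i F).η.naturality, Category.assoc]
            congr 1
            show ((CohTop.pull i).obj F).obj.map _ ≫ _ = _
            rw [← Functor.map_comp]
            rfl } }

lemma ι_nhdMap (F : CohTop.Ab X) (U : (qcNhds Z).FullSubcategory) (s : F.obj.obj U.1) :
    nhdMap Z i hiZ F (colimit.ι ((qcNhds Z).ι ⋙ F.obj) U s) =
      ((CohTop.pull i).obj F).obj.map (homOfLE (top_le_nhd Z i hiZ U)).op ((pullData i F).η.app U.1 s) :=
  ConcreteCategory.congr_hom (colimit.ι_desc (F := (qcNhds Z).ι ⋙ F.obj) _ U) s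

variable (hi : Topology.IsEmbedding i) (hrange : ∀ x ∈ Z, x ∈ Set.range i) (hZc : IsCompact Z)
  (hgen : ∀ (x : X) (a : W), x ⤳ i a → x ∈ Set.range i)

include hi hrange hZc hgen in
theorem bijective_nhdMap [CompactSpace W]
    (F : CohTop.Ab X) : Function.Bijective (nhdMap Z i hiZ F) := by
  refine ⟨(injective_iff_map_eq_zero _).2 fun w hw => ?_, fun t => ?_⟩
  · obtain ⟨U, s, rfl⟩ := Concrete.colimit_exists_rep ((qcNhds Z).ι ⋙ F.obj) w
    rw [ι_nhdMap] at hw
    obtain ⟨G, hG⟩ := exists_agree F (U := U.1.unop) s (0 : F.obj.obj U.1)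
    have hZG : Z ⊆ (G : Set X) := fun x hx => by
      obtain ⟨z, rfl⟩ := hrange x hx
      have hz : i z ∈ U.1.unop := U.2.1 hx
      refine (hG _).2 ⟨hz, hz, (pullData i F).germ_eq z hz hz s 0 ?_⟩
      rw [map_zero, map_zero,
        ← TopCat.Presheaf.germ_res_apply ((CohTop.pull i).obj F).obj (homOfLE (top_le_nhd Z i hiZ U)) z (Opens.mem_top z)]
      exact (congrArg _ hw).trans (map_zero _)
    obtain ⟨C, hCc, hCo, hZC, hCsub⟩ := PrespectralSpace.exists_isCompact_and_isOpen_between hZc
      (U.1.unop ⊓ G).2 (Set.subset_inter U.2.1 hZG)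
    let U' : (qcNhds Z).FullSubcategory := ⟨op ⟨C, hCo⟩, hZC, hCc⟩
    let k : U ⟶ U' := ObjectProperty.homMk (homOfLE (fun x hx => (hCsub hx).1 : (⟨C, hCo⟩ : Opens X) ≤ U.1.unop)).op
    have h0 : F.obj.map k.hom s = 0 := by
      refine TopCat.Presheaf.section_ext F ⟨C, hCo⟩ _ _ fun x hx => ?_
      show TopCat.Presheaf.germ F.obj ⟨C, hCo⟩ x hx _ = TopCat.Presheaf.germ F.obj ⟨C, hCo⟩ x hx 0
      rw [TopCat.Presheaf.germ_res_apply' F.obj k.hom x hx]
      obtain ⟨_, _, e⟩ := (hG x).1 (hCsub hx).2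
      exact e.trans ((map_zero _).trans (map_zero _).symm)
    rw [← colimit.w ((qcNhds Z).ι ⋙ F.obj) k, ConcreteCategory.comp_apply]
    exact (congrArg _ h0).trans (map_zero _)
  · obtain ⟨V₀, S₀, hS₀⟩ := exists_extend (pullData i F) hi isCompact_univ (fun x a _ h => by
      obtain ⟨b, rfl⟩ := hgen x a h
      exact ⟨b, trivial, rfl⟩) (U := ⊤) (Set.subset_univ _) t
    obtain ⟨C, hCc, hCo, hZC, hCsub⟩ := PrespectralSpace.exists_isCompact_and_isOpen_between hZc V₀.2
      (fun x hx => by
        obtain ⟨z, rfl⟩ := hrange x hx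
        exact (hS₀ z trivial).choose)
    let V : Opens X := ⟨C, hCo⟩
    let S : F.obj.obj (op V) := F.obj.map (homOfLE (hCsub : V ≤ V₀)).op S₀
    have hS : ∀ (z : W) (_ : z ∈ (Set.univ : Set W)), ∃ hW : i z ∈ V,
        TopCat.Presheaf.germ ((CohTop.pull i).obj F).obj ((Opens.map i).obj V) z hW ((pullData i F).η.app (op V) S) =
          TopCat.Presheaf.germ ((CohTop.pull i).obj F).obj ⊤ z trivial t := fun z hz => by
      obtain ⟨e, he, h⟩ := hiZ z
      have hV : i z ∈ V := h.mem_open hCo (hZC he)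
      obtain ⟨hW, e'⟩ := hS₀ z hz
      exact ⟨hV, ((pullData i F).germ_map z hV hW S S₀ (TopCat.Presheaf.germ_res_apply F.obj _ _ _ _)).trans e'⟩
    let U : (qcNhds Z).FullSubcategory := ⟨op V, hZC, hCc⟩
    refine ⟨colimit.ι ((qcNhds Z).ι ⋙ F.obj) U S, ?_⟩
    rw [ι_nhdMap]
    refine TopCat.Presheaf.section_ext ((CohTop.pull i).obj F) ⊤ _ _ fun z _ => ?_
    obtain ⟨hW, e⟩ := hS z (Set.mem_univ z)
    exact (TopCat.Presheaf.germ_res_apply ((CohTop.pull i).obj F).obj (homOfLE (top_le_nhd Z i hiZ U)) z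
      (Opens.mem_top z) _).trans e

/-- The natural map from sections near a subset to sections on it. -/
def nhdTrans : sheafToPresheaf (Opens.grothendieckTopology X) AddCommGrpCat.{u} ⋙ nhdsColim Z ⟶
    CohTop.pull i ⋙ Gam W where
  app F := nhdMap Z i hiZ F
  naturality F G φ := by
    refine colimit.hom_ext fun U => ?_
    refine ConcreteCategory.hom_ext _ _ fun s => ?_
    simp only [ConcreteCategory.comp_apply]
    show nhdMap Z i hiZ G ((colimMap (Functor.whiskerLeft (qcNhds Z).ι φ.hom))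
        (colimit.ι ((qcNhds Z).ι ⋙ F.obj) U s)) =
      ((CohTop.pull i).map φ).hom.app (op ⊤) (nhdMap Z i hiZ F (colimit.ι ((qcNhds Z).ι ⋙ F.obj) U s))
    rw [← ConcreteCategory.comp_apply (colimit.ι _ _) (colimMap _), ι_colimMap, ConcreteCategory.comp_apply]
    erw [ι_nhdMap, ι_nhdMap]
    have n := ConcreteCategory.congr_hom (NatTrans.congr_app (congrArg (fun q => q.hom)
      ((TopCat.Sheaf.pullbackPushforwardAdjunction AddCommGrpCat.{u} i).unit.naturality φ)) U.1) s
    have m := ConcreteCategory.congr_hom (((CohTop.pull i).map φ).hom.naturality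
      (homOfLE (top_le_nhd Z i hiZ U)).op) ((pullData i F).η.app U.1 s)
    refine Eq.trans ?_ m.symm
    exact congrArg (((CohTop.pull i).obj G).obj.map (homOfLE (top_le_nhd Z i hiZ U)).op) n

include hiZ hi hrange hZc hgen in
/-- Cohomology of a generization-closed subspace is the colimit over compact open neighbourhoods. -/
theorem colim_cohomology [SpectralSpace W]
    (F : CohTop.Ab X) (n : ℕ) :
    Nonempty ((nhdsColim Z).obj ((Sheaf.cohomologyPresheafFunctor (Opens.grothendieckTopology X) n).obj F) ≅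
      AddCommGrpCat.of (CohTop.H ((CohTop.pull i).obj F) n)) := by
  haveI : ∀ F, IsIso ((nhdTrans Z i hiZ).app F) := fun F =>
    (ConcreteCategory.isIso_iff_bijective _).2 (bijective_nhdMap Z i hiZ hi hrange hZc hgen F)
  haveI : IsIso (nhdTrans Z i hiZ) := NatIso.isIso_of_isIso_app _
  haveI : PreservesFiniteLimits (CohTop.pull i) := SiteBase.preservesFiniteLimits_pull i
  haveI : PreservesFiniteColimits (CohTop.pull i) :=
    ((TopCat.Sheaf.pullbackPushforwardAdjunction AddCommGrpCat.{u} i).leftAdjoint_preservesColimits :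
      PreservesColimitsOfSize.{0, 0} _).preservesFiniteColimits
  haveI : (CohTop.pull i).Additive := Functor.additive_of_preserves_binary_products _
  obtain ⟨e⟩ := SiteBase.nonempty_rightDerived_precomp_of_acyclic (CohTop.pull i) (Gam W) (fun Q hQ q => by
    haveI := hQ
    haveI := SiteBase.isFlasque_of_injective Q
    obtain ⟨e⟩ := derivedGam W ((CohTop.pull i).obj Q) (q + 1)
    haveI := subsingleton_H_of_isQcFlasque _ (isQcFlasque_pull hi hgen (pullData i Q)) q
    exact (AddCommGrpCat.isZero_of_subsingleton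
      (AddCommGrpCat.of (CohTop.H ((CohTop.pull i).obj Q) (q + 1)))).of_iso e) n
  obtain ⟨e'⟩ := derivedGam W ((CohTop.pull i).obj F) n
  exact ⟨(nhdsColim Z).mapIso ((SiteBase.rightDerivedIsoCohomology (J := Opens.grothendieckTopology X) n).app F).symm ≪≫
    ((SiteBase.rightDerivedCompIso (sheafToPresheaf (Opens.grothendieckTopology X) AddCommGrpCat.{u})
      (nhdsColim Z) n).app F).symm ≪≫
    ((SiteBase.rightDerivedCongr (asIso (nhdTrans Z i hiZ)) n) ≪≫ e).app F ≪≫ e'⟩

end Groth.Agent.SpecGen
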