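import Groth.Agent.SoftTop.Soft
import Mathlib.Topology.Spectral.Basic
import Mathlib.Topology.Sheaves.SheafCondition.UniqueGluing

/-!
Sheaves on coherent spaces whose restriction maps between compact opens are surjective are acyclic.
-/

set_option autoImplicit false
set_option backward.isDefEq.respectTransparency false
set_option backward.isDefEq.respectTransparency.types false
set_option linter.style.haveILetI false

universe u

open CategoryTheory CategoryTheory.Limits Opposite TopologicalSpace TopCat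

noncomputable section

namespace Groth.Agent.SpecGen

variable {K : TopCat.{u}}

/-- Restriction between compact opens is surjective. -/
def IsQcFlasque (H : CohTop.Ab K) : Prop :=
  ∀ (A B : Opens K) (h : A ≤ B), IsCompact (A : Set K) → IsCompact (B : Set K) →
    Function.Surjective (H.obj.map (homOfLE h).op)

lemma isQcFlasque_of_isFlasque (H : CohTop.Ab K) [hH : TopCat.Sheaf.IsFlasque H] : IsQcFlasque H :=
  fun _ _ h _ _ => (AddCommGrpCat.epi_iff_surjective _).1 (hH.epi (homOfLE h).op)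

lemma res_res {F : CohTop.Ab K} {A B C : Opens K} (h : A ≤ B) (h' : B ≤ C) (s : F.obj.obj (op C)) :
    F.obj.map (homOfLE h).op (F.obj.map (homOfLE h').op s) = F.obj.map (homOfLE (h.trans h')).op s := by
  rw [← ConcreteCategory.comp_apply, ← F.obj.map_comp]
  rfl

lemma nat_res {F G : CohTop.Ab K} (φ : F ⟶ G) {A B : Opens K} (h : A ≤ B) (s : F.obj.obj (op B)) :
    φ.hom.app (op A) (F.obj.map (homOfLE h).op s) = G.obj.map (homOfLE h).op (φ.hom.app (op B) s) :=
  ConcreteCategory.congr_hom (φ.hom.naturality (homOfLE h).op) s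

variable {E : ShortComplex (CohTop.Ab K)} [QuasiSeparatedSpace K]

lemma lift_sup (hE : E.ShortExact) (h₁ : IsQcFlasque E.X₁) {U A B : Opens K} (hA : A ≤ U) (hB : B ≤ U)
    (hAc : IsCompact (A : Set K)) (hBc : IsCompact (B : Set K)) (t : E.X₃.obj.obj (op U))
    (hya : ∃ y, E.g.hom.app (op A) y = E.X₃.obj.map (homOfLE hA).op t)
    (hyb : ∃ y, E.g.hom.app (op B) y = E.X₃.obj.map (homOfLE hB).op t) :
    ∃ y, E.g.hom.app (op (A ⊔ B)) y = E.X₃.obj.map (homOfLE (sup_le hA hB)).op t := by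
  obtain ⟨a, ha⟩ := hya
  obtain ⟨b, hb⟩ := hyb
  obtain ⟨x, hx⟩ := SoftTop.exists_preimage hE
    (E.X₂.obj.map (homOfLE (inf_le_left : A ⊓ B ≤ A)).op a -
      E.X₂.obj.map (homOfLE (inf_le_right : A ⊓ B ≤ B)).op b) (by
    rw [map_sub, nat_res, nat_res, ha, hb, res_res, res_res, sub_self])
  obtain ⟨x', hx'⟩ := h₁ (A ⊓ B) B inf_le_right
    (QuasiSeparatedSpace.inter_isCompact _ _ A.2 hAc B.2 hBc) hBc x
  let b' := b + E.f.hom.app (op B) x'
  have hb' : E.g.hom.app (op B) b' = E.X₃.obj.map (homOfLE hB).op t := by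
    have h0 : E.g.hom.app (op B) (E.f.hom.app (op B) x') = 0 := by
      show (E.f ≫ E.g).hom.app (op B) x' = 0
      rw [E.zero]; rfl
    rw [map_add, h0, add_zero, hb]
  have hab : E.X₂.obj.map (homOfLE (inf_le_left : A ⊓ B ≤ A)).op a =
      E.X₂.obj.map (homOfLE (inf_le_right : A ⊓ B ≤ B)).op b' := by
    rw [map_add, ← nat_res, hx', hx, add_sub_cancel]
  let W : ULift.{u} Bool → Opens K := fun t => match t with | ⟨true⟩ => A | ⟨false⟩ => B
  let sf : ∀ i, ToType (E.X₂.obj.obj (op (W i))) := fun i => match i with | ⟨true⟩ => a | ⟨false⟩ => b'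
  obtain ⟨y, hy, -⟩ := TopCat.Sheaf.existsUnique_gluing' (F := E.X₂) W (A ⊔ B)
    (fun i => match i with | ⟨true⟩ => homOfLE le_sup_left | ⟨false⟩ => homOfLE le_sup_right)
    (sup_le (le_iSup W ⟨true⟩) (le_iSup W ⟨false⟩)) sf (by
      rintro ⟨_ | _⟩ ⟨_ | _⟩
      · rfl
      · show E.X₂.obj.map (homOfLE (inf_le_left : B ⊓ A ≤ B)).op b' =
          E.X₂.obj.map (homOfLE (inf_le_right : B ⊓ A ≤ A)).op a
        have := congrArg (E.X₂.obj.map (homOfLE (inf_comm B A).le).op) hab
        rw [res_res, res_res] at this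
        exact this.symm
      · exact hab
      · rfl)
  refine ⟨y, TopCat.Sheaf.eq_of_locally_eq₂ (F := E.X₃) (homOfLE le_sup_left) (homOfLE le_sup_right)
    le_rfl _ _ ?_ ?_⟩
  · show E.X₃.obj.map _ _ = E.X₃.obj.map _ _
    rw [← nat_res, res_res, ← ha]
    exact congrArg _ (hy ⟨true⟩)
  · show E.X₃.obj.map _ _ = E.X₃.obj.map _ _
    rw [← nat_res, res_res, ← hb']
    exact congrArg _ (hy ⟨false⟩)

variable [PrespectralSpace K]

theorem surjective_of_isCompact (hE : E.ShortExact) (h₁ : IsQcFlasque E.X₁) {U : Opens K}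
    (hU : IsCompact (U : Set K)) : Function.Surjective (E.g.hom.app (op U)) := by
  intro t
  have loc : ∀ z ∈ U, ∃ V : Opens K, z ∈ V ∧ IsCompact (V : Set K) ∧ ∃ hV : V ≤ U,
      ∃ y, E.g.hom.app (op V) y = E.X₃.obj.map (homOfLE hV).op t := by
    intro z hz
    obtain ⟨V₀, hV₀, y, hy⟩ := SoftTop.exists_lift hE z hz t
    obtain ⟨W, hzW, i₁, i₂, e⟩ := TopCat.Presheaf.germ_eq E.X₃.obj z hV₀ hz _ _ hy
    obtain ⟨V, ⟨hVo, hVc⟩, hzV, hVW⟩ :=
      PrespectralSpace.isTopologicalBasis.exists_subset_of_mem_open (show z ∈ (W : Set K) from hzW) W.2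
    have hVW' : (⟨V, hVo⟩ : Opens K) ≤ W := hVW
    refine ⟨⟨V, hVo⟩, hzV, hVc, hVW'.trans i₂.le, E.X₂.obj.map (homOfLE (hVW'.trans i₁.le)).op y, ?_⟩
    rw [nat_res, ← res_res hVW' i₁.le, ← res_res hVW' i₂.le]
    exact congrArg _ e
  choose! V hzV hVc hVU hy using loc
  obtain ⟨s, hs⟩ := hU.elim_finite_subcover (fun z : U => (V z : Set K)) (fun z => (V z).2)
    fun z hz => Set.mem_iUnion.2 ⟨⟨z, hz⟩, hzV z hz⟩
  have main : ∀ s : Finset U, IsCompact ((s.sup fun z => V z : Opens K) : Set K) ∧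
      ∃ h : (s.sup fun z => V z) ≤ U,
        ∃ y, E.g.hom.app (op (s.sup fun z => V z)) y = E.X₃.obj.map (homOfLE h).op t := by
    intro s
    induction s using Finset.cons_induction with
    | empty =>
      refine ⟨by simp, bot_le, 0, ?_⟩
      exact (TopCat.Sheaf.eq_of_locally_eq' (F := E.X₃) (U := fun e : PEmpty.{u + 1} => e.elim)
        (V := _) (fun e => e.elim) (by simp) _ _ (fun e => e.elim))
    | cons z s hzs ih =>
      obtain ⟨hc, h, hy'⟩ := ih
      rw [Finset.sup_cons]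
      refine ⟨?_, sup_le (hVU z z.2) h, lift_sup hE h₁ (hVU z z.2) h (hVc z z.2) hc t (hy z z.2) hy'⟩
      rw [Opens.coe_sup]
      exact (hVc z z.2).union hc
  obtain ⟨-, h, y, hy'⟩ := main s
  have hUs : U ≤ s.sup fun z => V z := fun x hx => by
    obtain ⟨z, hz, hxz⟩ := Set.mem_iUnion₂.1 (hs hx)
    exact SetLike.le_def.1 (Finset.le_sup (f := fun z : U => V z) hz) hxz
  refine ⟨E.X₂.obj.map (homOfLE hUs).op y, ?_⟩
  rw [nat_res, hy', res_res]
  exact (ConcreteCategory.congr_hom (E.X₃.obj.map_id (op U)) t)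

theorem isQcFlasque_right (hE : E.ShortExact) (h₁ : IsQcFlasque E.X₁) (h₂ : IsQcFlasque E.X₂) :
    IsQcFlasque E.X₃ := fun A B h hA hB t => by
  obtain ⟨y, rfl⟩ := surjective_of_isCompact hE h₁ hA t
  obtain ⟨w, rfl⟩ := h₂ A B h hA hB y
  exact ⟨E.g.hom.app (op B) w, (nat_res E.g h w).symm⟩

variable [CompactSpace K]

/-- Such sheaves are acyclic. -/
theorem subsingleton_H_of_isQcFlasque (H : CohTop.Ab K) (hH : IsQcFlasque H) (n : ℕ) :
    Subsingleton (CohTop.H H (n + 1)) := by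
  refine SiteBase.subsingleton_H_of_HU_terminal isTerminalTop H (n + 1) ?_
  refine SiteBase.subsingleton_HU_of_class (J := Opens.grothendieckTopology K) IsQcFlasque
    (fun U => IsCompact (U : Set K)) ?_ ?_ hH (U := ⊤) isCompact_univ n
  · intro E hE h1 h2
    haveI := h2
    haveI := SiteBase.isFlasque_of_injective E.X₂
    exact isQcFlasque_right hE h1 (isQcFlasque_of_isFlasque E.X₂)
  · intro E hE h1 _ U hU
    exact surjective_of_isCompact hE h1 hU

end Groth.Agent.SpecGen
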